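import Cfsg.Agent.Lib.R11.ModA
import Cfsg.Agent.Lib.Mathieu.Move
import Cfsg.Agent.S1552
import Cfsg.Agent.S1559
import Cfsg.Agent.S1564

/-!
# Faithful `F₂M₂₄`-modules of dimension 11: the two cases
-/

set_option autoImplicit false
set_option maxRecDepth 100000

namespace Cfsg.Lib.R11

open Subgroup Cfsg.Lib.Calc Cfsg.Lib.F2 Cfsg.Lib.Golay Cfsg.Lib.Mathieu Cfsg.Lib.Grp MulAction
open scoped Pointwise

/-- the mask with the given coordinates -/
noncomputable def dcd (b : Bool) (k : ℕ) : ℕ := appA 24 (bas b) k 11

variable {A : Type*} [CommGroup A] [Finite A] [MulDistribMulAction M24 A]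

/-- an additive map from sets of points to the module -/
structure Cs (b : Bool) (φ : Finset GolayPt → A) : Prop where
  add : ∀ s t, φ (symmDiff s t) = φ s * φ t
  h1 : ∀ i < 24, φ (G.toF (Nat.xor (2 ^ i) (dcd b (get 11 (dco b) i)))) = 1
  h2 : ∀ k < 2 ^ 11, φ (G.toF (dcd b k)) = 1 → k = 0
  h3 : ∀ g : M24, ∀ j < 11, g • φ (G.toF (g24 (bas b) j)) = φ ((g : P24) • G.toF (g24 (bas b) j))

theorem prod_symmDiff {α M : Type*} [DecidableEq α] [CommGroup M] (sq : ∀ a : M, a * a = 1) (D : α → M) (s t : Finset α) :
    ∏ a ∈ symmDiff s t, D a = (∏ a ∈ s, D a) * ∏ a ∈ t, D a := by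
  rw [← Finset.prod_union_inter, ← Finset.prod_sdiff (Finset.inter_subset_union (s := s) (t := t)), mul_assoc, sq, mul_one,
    symmDiff_eq_sup_sdiff_inf]
  rfl

theorem sym3 {α M : Type*} {r : α → α → α → M} (s1 : ∀ a b c, r a b c = r b a c) (s2 : ∀ a b c, r a b c = r a c b)
    {a b c x y z : α} (hx : x = a ∨ x = b ∨ x = c) (hy : y = a ∨ y = b ∨ y = c) (hz : z = a ∨ z = b ∨ z = c)
    (n1 : x ≠ y) (n2 : x ≠ z) (n3 : y ≠ z) : r x y z = r a b c := by
  rcases hx with rfl | rfl | rfl <;> rcases hy with rfl | rfl | rfl <;> rcases hz with rfl | rfl | rfl <;>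
    first | contradiction | rfl | exact s1 .. | exact s2 .. | exact (s1 ..).trans (s2 ..) | exact (s2 ..).trans (s1 ..) |
      exact (s1 ..).trans ((s2 ..).trans (s1 ..))

theorem step3 {α M : Type*} {S : Set α} {r : α → α → α → M} (s1 : ∀ a b c, r a b c = r b a c)
    (s2 : ∀ a b c, r a b c = r a c b) (st : ∀ a ∈ S, ∀ b ∈ S, ∀ c ∈ S, ∀ d ∈ S, a ≠ b → a ≠ c → b ≠ c → a ≠ d → b ≠ d →
      r a b c = r a b d) {a b c : α} (ha : a ∈ S) (hb : b ∈ S) (hc : c ∈ S) (m1 : a ≠ b) (m2 : a ≠ c) (m3 : b ≠ c)
    {x y z : α} (hx : x ∈ S) (hy : y ∈ S) (hz : z ∈ S) (n1 : x ≠ y) (n2 : x ≠ z) (n3 : y ≠ z) : r x y z = r a b c := by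
  have k1 : ∀ x ∈ S, ∀ y ∈ S, ∀ z ∈ S, x ≠ y → x ≠ z → y ≠ z → a ≠ x → b ≠ x → a ≠ y → r x y z = r a b c :=
    fun x hx y hy z hz n1 n2 n3 o1 o2 o3 => by
    rw [st x hx y hy z hz a ha n1 n2 n3 o1.symm o3.symm, s2, s1, st a ha x hx y hy b hb o1 o3 n1 m1 o2.symm, s2,
      st a ha b hb x hx c hc m1 o1 o2 m2 m3]
  have k2 : ∀ x ∈ S, ∀ y ∈ S, ∀ z ∈ S, x ≠ y → x ≠ z → y ≠ z → a ≠ x → b ≠ x → r x y z = r a b c :=
    fun x hx y hy z hz n1 n2 n3 o1 o2 => (em (a = y)).elim
      (fun e => (s2 ..).trans (k1 x hx z hz y hy n2 n1 n3.symm o1 o2 (e ▸ n3))) (k1 x hx y hy z hz n1 n2 n3 o1 o2)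
  by_cases e : a ≠ x ∧ b ≠ x
  · exact k2 x hx y hy z hz n1 n2 n3 e.1 e.2
  by_cases e' : a ≠ y ∧ b ≠ y
  · exact (s1 ..).trans (k2 y hy x hx z hz n1.symm n3 n2 e'.1 e'.2)
  exact (s2 ..).trans ((s1 ..).trans (k2 z hz x hx y hy n2.symm n3.symm n1 (by grind) (by grind)))

/-- pairs of octads meeting in four points -/
def crt : ℕ := 0xf00068720094cc02109c003039004aaa00194b0048d80018d800469280161c8025c60015a88104aa0044c88024258024548014b40014e1000c6c000c8d000c6c0023f0001352700b498007a480078b0402c24202e08082b200828a8042614042530042628012a600120e40122a400ac5000a5a000a468006708006a90006360006190006931401583201c84201708081b4008160b041704041590041918041d800212c90214c502161002130a021506021648011984011360011282011314009cc000998200953000992000907200934c005628005869005433005152005d08005b200055800052d00058a2005e42003c28003b090035480033840032340039600038d00031b00030c800381400302c00380e400c44200498200c2120024c100c80100a06100c241006c0100a90100548080928080c11080503080f00080612080360080311080099040384040494040a11040303040e02040710040a880406240405a004091204090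c0408a1040188040608020846020911020448020284020e10020cc0020a030203880209840205440203120202d00201c20204890208490202450207180101680101890100e1010423010304010d40010c84010b20010681010670010a480109820103800105060104c20100ac010c4c00832400829c008d0a008886008c11008603008244008141008121008055008c20008710008b010086a0008640008a120089c00085400083400089200085200084c20082c10081b00088a00084900088780082620084610084500080d0008146008825008091008a28004a11004603004121004181004f00004c48004c12004a4000460c0045800043800049600043200043120049030041d00044c10048b40044a20042a100429800449000418a00488900403200445000425000484200443000405a0040390042100041c30024510028330020a900206500210d002d08002c82002c60002c05002b40002720002111002686002a81002a2a002a040025900029040022b00021a600289800288400248100216a0028540021500020cc00224100213000242a00282400221900280c00202c002e09001d40001c82001c10001720001a81001a60001615001a100016020019810019100015100015020013020018c50011c20014b000189000128a0011880010e00012520018500014500011500014460012450011400011340018320010a80010640014220012220011220011200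0181c00111a00141900105400141200110c00140a001206001d08800c88800c48800ac2800a84800a34800981800945800903800704400b00400aa0400624400a1040060c400a09400a02400a004005614009404009224009144005094009084009014008c040088840088440088240047040086040085040044d4008484008434008384008244008214008204008124008104008084008054008044008024008014008004003a12005422009402009202005202009182003112005102003052005042009012005012009002008c22004c02008a02004a020089020088820048620088420088120048120048020047020086020084820044120084020044020083420082a20042420042220082020041520081220041220081020041020080c20040c2008092008052008042004042008032008022004022004012008002004002008c01002a11004a010049010048c10028810088410088210028210088110048010028010046110086010026010025010084a10084510044410044210084010044010024010023810043010012a10012610082210082010042010022010041a10081810041510081410081210021210021110081010041010080c10020a100409100808100208100406100205100804100404100803100402100202100801100401100201100800100400100200100850080250080150080246080845080144080842080442080142080441080241080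8400804400802400800ba08083408043008023008013008012608042508082208042208022208082108022108082008042008012008011c08081808021808081008041008011008020d08040c08040a08020a08010a08080908040908080808020808010808040608080408080208020208010208080108040108020108040008020008010008083804013404007204043004012a0402290400a80400a40404220402220400a20404210408200402200401200400a004021804011804081404021204009204081004041004021004011004009004040d04008c04080a04020a04080904080804008804008704040604020604010604080504020504040404010404008404080304080204040204010204080104040104020104008104080004040004020004010004008004041c02009a02081802021802009502081402011402005402081202005202021102005102041002021002011002009002010c02008c02004c02080a02040a02010a02020902020802008802004802020602010602080502040502080402040402008402004402008302004302080202040202020202010202008202004202080102040102020102080002040002020002010002008002004002020e01080c01040c01010c01080b01040a01010a01008a01004a01040901020901002901080801020801010801004801002801008601040501008501080401010401008401004401008301080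201040201020201008201004201020101008101004101002101080001040001020001010001008001002001040600820600801600840500820500808500880400840400810400808400804400802400801400880300804300880200840200820200810200808200804200880100840100820100804100802100801100880000820000810000808000804000802000801000808300401300400b004402004202004102004082004042004012004801004401004201004081004021004011004800004400004100004080004040004020004010004008004801002081002041002021002011002009002005002800002400002200002100002080002040002010002008002004002800001400001200001080001040001020001010001008001004001002001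

/-- the numbers of the basis octads -/
def K0 : ℕ := 0x100000000000000000000000000000000000000000000000000000000000000000000000000000000000000000000000000000000000000000000000000000000000000000000000000000000000000000000000000000000000000000000000000000000000000000000000000000000000000000000000000000000000000010000000000000000000000000000000000000000000000000000000000000000000000000000000000000000000000000000000000000000000000000000000100000000000000000000000000000000000000000000000000000000000000010000000000000000000000000000000100000000000000010000000100010116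

/-- one step of the closure -/
noncomputable def stp (K x : ℕ) : ℕ := force (Nat.land x 4095) fun i => force (Nat.land (Nat.shiftRight x 12) 4095) fun j =>
  cond (Golay.bit K i && Golay.bit K j && Nat.beq (pc (Nat.land (cw i) (cw j))) 4) (Nat.lor K (Nat.pow 2 (Nat.xor i j))) K

/-- the octads obtained after `n` steps -/
noncomputable def clo (K n : ℕ) : ℕ :=
  Nat.rec (motive := fun _ => ℕ) K (fun t K => force K fun K => force (get 24 crt t) (stp K)) n

theorem clo_spec {P : Finset GolayPt → Prop} (hP : ∀ s t, P s → P t → (s ∩ t).card = 4 → P (symmDiff s t)) {K : ℕ}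
    (hK : ∀ i < 4096, K.testBit i = true → P (G.toF (cw i))) (n : ℕ) :
    ∀ i < 4096, (clo K n).testBit i = true → P (G.toF (cw i)) := by
  induction n with
  | zero => exact hK
  | succ n ih =>
    rw [show clo K (n + 1) = stp (clo K n) (get 24 crt n) from
      (force_eq (clo K n) fun K => force (get 24 crt n) (stp K)).trans (force_eq _ _), stp, force_eq, force_eq]
    have a := land_4095_lt (get 24 crt n)
    have b := land_4095_lt (Nat.shiftRight (get 24 crt n) 12)
    generalize Nat.land (get 24 crt n) 4095 = i at *
    generalize Nat.land (Nat.shiftRight (get 24 crt n) 12) 4095 = j at *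
    cases e : Golay.bit (clo K n) i && Golay.bit (clo K n) j && Nat.beq (pc (Nat.land (cw i) (cw j))) 4
    · exact ih
    simp only [Bool.and_eq_true, Golay.bit_eq, Nat.beq_eq] at e
    intro k hk m
    rcases Bool.or_eq_true_iff.1 ((Nat.testBit_or ..).symm.trans m) with m | m
    · exact ih k hk m
    · rw [← of_decide_eq_true (Nat.testBit_two_pow.symm.trans m), show cw (Nat.xor i j) = Nat.xor (cw i) (cw j) from cw_xor a b,
        G.toF_xor]
      exact hP _ _ (ih i a e.1.1) (ih j b e.1.2) ((card_inter_toF (cw_lt a) _).trans e.2)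

theorem oct_ind {P : Finset GolayPt → Prop} (hP : ∀ s t, P s → P t → (s ∩ t).card = 4 → P (symmDiff s t))
    (h0 : ∀ k < 12, P (G.toF (cw (2 ^ k)))) {o : Finset GolayPt} (ho : o ∈ octads) : P o := by
  obtain ⟨i, hi, rfl⟩ := mem_CW_iff.1 ho.1
  have k := (by decide +kernel : force (clo K0 747) (fun K =>
    allB 4096 fun i => !Nat.beq (pc (cw i)) 8 || Golay.bit K i) = true)
  rw [force_eq] at k
  have k := allB_iff.1 k i hi
  rw [← card_toF (cw_lt hi), ho.2, Golay.bit_eq] at k
  refine clo_spec hP (fun j hj m => ?_) 747 i hi k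
  have := allB_iff.1 (by decide +kernel : (allB 4096 fun i => !Golay.bit K0 i || anyB 12 fun k => Nat.beq (2 ^ k) i) = true)
    j hj
  rw [Golay.bit_eq, m, Bool.not_true, Bool.false_or] at this
  obtain ⟨k, a, b⟩ := anyB_iff.1 this
  exact Nat.eq_of_beq_eq_true b ▸ h0 k a

namespace FM

variable (h : FM A) {v : A}
include h

theorem duad (n : v ≠ 1) (e : ol v = 276) : ∃ φ : Finset GolayPt → A, Cs false φ := by
  classical
  obtain ⟨s, hs, e1⟩ := Agent.S1589.result.2.1 _ e
  obtain ⟨f, hf⟩ := exists_eqv e1.ge
  have ex : ∀ t : Finset GolayPt, t.card = 2 → ∃ g : M24, g • s = t := fun t ht =>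
    exists_smul_eq_of_card_le_five (hs.trans ht.symm) (by omega)
  let F : GolayPt → GolayPt → A := fun a b => if a = b then 1 else f {a, b}
  have F1 : ∀ a b, F a b = F b a := fun a b => by simp only [F, eq_comm, Finset.pair_comm]
  have F2 : ∀ (g : M24) a b, g • F a b = F (g.1 a) (g.1 b) := fun g a b => by
    by_cases c : a = b
    · simp [F, c]
    · obtain ⟨k, hk⟩ := ex _ (Finset.card_pair c)
      rw [show F a b = f _ from if_neg c, show F (g.1 a) (g.1 b) = f _ from if_neg (g.1.injective.ne c), ← hk, hf,
        ← mul_smul, ← hf, mul_smul, hk]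
      exact congrArg f (by simp [Subgroup.smul_def, Finset.smul_finset_def])
  have F3 : ∀ a b c, F a b * F b c * F a c = 1 := fun a b c => by
    by_cases c1 : a = b
    · simp [F, c1, h.sq]
    by_cases c2 : a = c
    · rw [← c2, F1 b a, h.sq]; simp [F]
    by_cases c3 : b = c
    · rw [← c3, mul_right_comm, h.sq]; simp [F]
    have c4 : ({a, b, c} : Finset GolayPt).card = 3 := Finset.card_eq_three.2 ⟨a, b, c, c1, c2, c3, rfl⟩
    refine by_contra fun n' => ?_
    have c5 := (h.coat (Agent.S1564.result _ c4) (r := F a b * F b c * F a c) fun g hg => by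
      have m : ∀ x ∈ ({a, b, c} : Finset GolayPt), g.1 x = a ∨ g.1 x = b ∨ g.1 x = c := fun x hx => by
        simpa using (apply_mem_iff hg).2 hx
      rw [mem_stabilizer_iff, smul_mul', smul_mul', F2, F2, F2]
      exact sym3 (r := fun a b c => F a b * F b c * F a c) (fun a b c => by rw [F1 a b]; ac_rfl)
        (fun a b c => by rw [F1 b c]; ac_rfl) (m a (by simp)) (m b (by simp)) (m c (by simp))
        (g.1.injective.ne c1) (g.1.injective.ne c2) (g.1.injective.ne c3)).resolve_left n'
    rw [index_stabilizer, orbit_of_card_le_five (by omega), c4, ncard_card_eq, card_golayPt,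
      show Nat.choose 24 3 = 2024 from rfl] at c5
    have := h.le2 n n'
    omega
  have F4 : ∀ a b c, F a b = F a c * F b c := fun a b c => by
    rw [← mul_one (F a b), ← h.sq (F b c * F a c), ← mul_assoc, ← mul_assoc (F a b), F3, one_mul, mul_comm]
  have add := prod_symmDiff h.sq (F · (G.pt 23))
  have eqv : ∀ (g : M24) (s : Finset GolayPt), Even s.card →
      g • ∏ a ∈ s, F a (G.pt 23) = ∏ a ∈ (g : P24) • s, F a (G.pt 23) := fun g s ⟨k, hk⟩ => by
    rw [Finset.smul_prod', Finset.smul_finset_def, Finset.prod_image (MulAction.injective g.1).injOn]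
    simp only [F2, F4 _ (g.1 (G.pt 23)) (G.pt 23)]
    rw [Finset.prod_mul_distrib, Finset.prod_const, hk, pow_add, h.sq, mul_one]
    rfl
  have ev : ∀ s t : Finset GolayPt, Even s.card → Even t.card → Even (symmDiff s t).card := fun s t a b => by
    have := card_symmDiff_add s t
    rw [Nat.even_iff] at *
    omega
  have inv : InvFam {s | Even s.card ∧ ∏ a ∈ s, F a (G.pt 23) = 1} := ⟨by simp,
    fun s a t b => ⟨ev s t a.1 b.1, by rw [add, a.2, b.2, mul_one]⟩,
    fun g s a => ⟨by rw [Finset.card_smul_finset]; exact a.1, by rw [← eqv g s a.1, a.2, smul_one]⟩⟩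
  have k2 : ∀ s : Finset GolayPt, Even s.card → ∏ a ∈ s, F a (G.pt 23) = 1 → s ∈ CW := fun t a b => by_contra fun c => by
    obtain ⟨x, y, d, rfl⟩ := Finset.card_eq_two.1 hs
    have := (inv.of_not_cw c ⟨a, b⟩ {x, y} (by rw [hs]; decide)).2
    rw [Finset.prod_pair d, ← F4, show F x y = f _ from if_neg d, ← one_smul M24 ({x, y} : Finset _), hf, one_smul] at this
    exact n this
  have k1 : ∀ s ∈ CW, ∏ a ∈ s, F a (G.pt 23) = 1 := by
    have := Fintype.ofFinite A
    obtain ⟨i, j, d, c⟩ := Fintype.exists_ne_map_eq_of_card_lt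
      (fun i : Fin 4096 => ∏ a ∈ G.toF (appA 24 (pack 24 (fun k => 2 ^ k + 4096) 12) i 12), F a (G.pt 23))
      (by rw [← Nat.card_eq_fintype_card, h.card]; simp)
    have l : i.1 ^^^ j.1 < 4096 := Nat.xor_lt_two_pow (n := 12) i.2 j.2
    have k := of_allLt (by decide +kernel : (allLt 4096 fun i => force (appA 24 (pack 24 (fun k => 2 ^ k + 4096) 12) i 12) fun m =>
      Nat.beq (pc m % 2) 0 && (Nat.beq i 0 || !Nat.beq (pc m) 0) && !Nat.beq (pc m) 24) = true) l
    simp only [force_eq, ← card_toF (appA_lt _ _ _ _), Bool.and_eq_true, Bool.or_eq_true, Nat.beq_eq, Bool.not_eq_true',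
      Bool.eq_false_iff, ne_eq, Nat.xor_eq_zero_iff, Fin.val_inj, d, false_or] at k
    have m : G.toF (appA 24 (pack 24 (fun k => 2 ^ k + 4096) 12) (i.1 ^^^ j.1) 12) ∈ {s | Even s.card ∧ ∏ a ∈ s, F a (G.pt 23) = 1} :=
      ⟨Nat.even_iff.2 k.1.1, by rw [appA_xor]; exact (G.toF_xor _ _ ▸ add _ _).trans (by rw [c, h.sq])⟩
    exact fun s hs => (inv.of_cw (k2 _ m.1 m.2) (fun e => k.1.2 (by rw [e]; rfl))
      (fun e => k.2 (by rw [e]; exact card_golayPt)) m hs).2
  refine ⟨fun s => ∏ a ∈ s, F a (G.pt 23), add, fun i hi => ?_, fun k hk c => ?_, fun g j hj => eqv g _ ?_⟩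
  · rcases Bool.or_eq_true_iff.1 (of_allLt (by decide +kernel : (allLt 24 fun i =>
      isCW (Nat.xor (2 ^ i) (dcd false (get 11 (dco false) i))) ||
      isCW (Nat.xor (Nat.xor (2 ^ i) (dcd false (get 11 (dco false) i))) (2 ^ 23))) = true) hi) with c | c
    · exact k1 _ (mem_CW_of_isCW c)
    · have := k1 _ (mem_CW_of_isCW c)
      rwa [G.toF_xor, add, G.toF_two_pow (by decide), Finset.prod_singleton, show F _ _ = 1 from if_pos rfl,
        mul_one] at this
  · have := of_allLt (by decide +kernel : (allLt 2048 fun k => force (dcd false k) fun m =>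
      Nat.beq (pc m % 2) 0 && (Nat.beq k 0 || !isCW m)) = true) hk
    have l : dcd false k < 2 ^ 24 := appA_lt _ _ _ _
    simp only [force_eq, ← card_toF l, Bool.and_eq_true, Bool.or_eq_true, Nat.beq_eq, Bool.not_eq_true'] at this
    exact this.2.resolve_right fun e => by simpa [e] using (toF_mem_CW l).1 (k2 _ (Nat.even_iff.2 this.1) c)
  · rw [card_toF (g24_lt _ _), Nat.even_iff]
    exact Nat.eq_of_beq_eq_true (of_allLt (by decide +kernel :
      (allLt 11 fun j => Nat.beq (pc (g24 (bas false) j) % 2) 0) = true) hj)

theorem octad (n : v ≠ 1) (e : ol v = 759) : ∃ φ : Finset GolayPt → A, Cs true φ := by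
  classical
  obtain ⟨s, hs, e1⟩ := Agent.S1589.result.1 _ e
  obtain ⟨f, hf⟩ := exists_eqv e1.ge
  have F2 : ∀ (g : M24), ∀ o ∈ octads, g • f o = f (g.1 • o) := fun g o ho => by
    obtain ⟨k, rfl⟩ := exists_smul_octad hs ho
    exact ((congrArg _ (hf k)).trans (mul_smul ..).symm).trans ((hf _).symm.trans (congrArg f (mul_smul ..)))
  have fam : ∀ g : M24, ∀ S : Finset (Finset GolayPt), g ∈ stabilizer M24 S → ∀ t ∈ S, g.1 • t ∈ S :=
    fun g S hg => smul_mem_of_stab S g hg
  have F3 : ∀ o ∈ octads, ∀ o' ∈ octads, Disjoint o o' → f o * f o' * f (o ∪ o')ᶜ = 1 := fun a ha b hb d => by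
    have T := trio_mem ha hb d
    have hc := compl_union_mem_octads ha hb d
    generalize (a ∪ b)ᶜ = c at T hc
    obtain ⟨c1, c2, c3⟩ : a ≠ b ∧ a ≠ c ∧ b ≠ c := by
      have := T.1
      refine ⟨?_, ?_, ?_⟩ <;> rintro rfl <;> simp only [Finset.mem_insert, Finset.mem_singleton, true_or, or_true,
        Finset.insert_eq_of_mem] at this <;> exact absurd (this ▸ Finset.card_le_two) (by decide)
    obtain ⟨-, -, -, -, -, -, -, -, -, -, -, -, -, co⟩ := Agent.S1559.result _ T
    refine by_contra fun n' => ?_
    have c5 := (h.coat co (r := f a * f b * f c) fun g hg => by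
      have m : ∀ x ∈ ({a, b, c} : Finset _), g.1 • x = a ∨ g.1 • x = b ∨ g.1 • x = c := fun x hx => by
        simpa using fam g _ hg x hx
      rw [mem_stabilizer_iff, smul_mul', smul_mul', F2 g a ha, F2 g b hb, F2 g c hc]
      exact sym3 (r := fun a b c => f a * f b * f c) (fun a b c => by ac_rfl) (fun a b c => by ac_rfl) (m a (by simp))
        (m b (by simp)) (m c (by simp)) ((MulAction.injective _).ne c1) ((MulAction.injective _).ne c2)
        ((MulAction.injective _).ne c3)).resolve_left n'
    rw [index_stabilizer, orbit_trio T, ncard_trios] at c5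
    have := h.le1 n'
    omega
  have inv : ∀ {x y z : A}, x * y * z = 1 → x * y = z := fun {x y z} e => by rw [← mul_one (x * y), ← h.sq z, ← mul_assoc, e, one_mul]
  have F4 : ∀ S ∈ sextets, ∀ a ∈ S, ∀ b ∈ S, ∀ c ∈ S, a ≠ b → a ≠ c → b ≠ c → f (a ∪ b) * f (a ∪ c) * f (b ∪ c) = 1 :=
    fun S hS a ha b hb c hc c1 c2 c3 => by
    obtain ⟨-, -, -, -, -, -, -, -, -, -, co⟩ := Agent.S1552.result _ hS
    refine by_contra fun n' => ?_
    have o := hS.2.2
    have c5 := (h.coat co (r := f (a ∪ b) * f (a ∪ c) * f (b ∪ c)) fun g hg => by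
      rw [mem_stabilizer_iff, smul_mul', smul_mul', F2 g _ (o a ha b hb c1), F2 g _ (o a ha c hc c2),
        F2 g _ (o b hb c hc c3), Finset.smul_finset_union, Finset.smul_finset_union, Finset.smul_finset_union]
      refine step3 (S := S) (r := fun a b c => f (a ∪ b) * f (a ∪ c) * f (b ∪ c))
        (fun a b c => by rw [Finset.union_comm a b]; ac_rfl) (fun a b c => by rw [Finset.union_comm b c]; ac_rfl)
        (fun a ha b hb c hc d hd n1 n2 n3 n4 n5 => ?_) ha hb hc c1 c2 c3 (fam g _ hg a ha) (fam g _ hg b hb)
        (fam g _ hg c hc) ((MulAction.injective _).ne c1) ((MulAction.injective _).ne c2) ((MulAction.injective _).ne c3)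
      by_cases n6 : c = d
      · rw [n6]
      have dj := fun {t u} => sextet_disjoint hS (t := t) (u := u)
      have k1 := inv (F3 _ (o a ha c hc n2) _ (o b hb d hd n5) (Finset.disjoint_union_left.2
        ⟨Finset.disjoint_union_right.2 ⟨dj ha hb n1, dj ha hd n4⟩, Finset.disjoint_union_right.2 ⟨dj hc hb n3.symm, dj hc hd n6⟩⟩))
      have k2 := inv (F3 _ (o a ha d hd n4) _ (o b hb c hc n3) (Finset.disjoint_union_left.2
        ⟨Finset.disjoint_union_right.2 ⟨dj ha hb n1, dj ha hc n2⟩,
          Finset.disjoint_union_right.2 ⟨dj hd hb n5.symm, dj hd hc (Ne.symm n6)⟩⟩))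
      rw [show a ∪ d ∪ (b ∪ c) = a ∪ c ∪ (b ∪ d) by ac_rfl, ← k1] at k2
      rw [mul_assoc, mul_assoc, mul_right_inj]
      rw [← mul_one (f (a ∪ c) * _), ← h.sq (f (b ∪ d)), mul_mul_mul_comm, ← k2, mul_assoc,
        ← mul_assoc (f (b ∪ c)), h.sq, one_mul]).resolve_left n'
    rw [index_stabilizer, orbit_sextet hS, ncard_sextets] at c5
    have := h.le2 n n'
    omega
  have F5 : ∀ o ∈ octads, ∀ o' ∈ octads, (o ∩ o').card = 4 → f (symmDiff o o') = f o * f o' := fun o ho o' ho' c => by
    have c1 := Finset.card_sdiff_add_card_inter o o'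
    have c2 := Finset.card_sdiff_add_card_inter o' o
    rw [ho.2, c] at c1
    rw [ho'.2, Finset.inter_comm, c] at c2
    have := F4 _ (sx_mem c) _ (self_mem_sx c) (o \ o') (mem_sx.2 ⟨by
      rw [show symmDiff (o \ o') (o ∩ o') = o by ext; simp [Finset.mem_symmDiff]; tauto]; exact ho.1, by omega⟩)
      (o' \ o) (mem_sx.2 ⟨by
      rw [show symmDiff (o' \ o) (o ∩ o') = o' by ext; simp [Finset.mem_symmDiff]; tauto]; exact ho'.1, by omega⟩)
      (ne_of_disjoint (Finset.disjoint_left.2 fun x => by simp; tauto) (by omega))
      (ne_of_disjoint (Finset.disjoint_left.2 fun x => by simp; tauto) (by omega))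
      (ne_of_disjoint (Finset.disjoint_left.2 fun x => by simp; tauto) (by omega))
    rw [show o ∩ o' ∪ o \ o' = o by ext; simp; tauto, show o ∩ o' ∪ o' \ o = o' by ext; simp; tauto] at this
    exact (inv this).symm
  let D : GolayPt → A := fun a => if G.idx a < 12 then f (G.toF (cw (2 ^ G.idx a))) else 1
  have add := prod_symmDiff h.sq D
  have hi : ∀ m, Nat.land m 4095 = 0 → ∏ a ∈ G.toF m, D a = 1 := fun m c => Finset.prod_eq_one fun a ha => if_neg fun l => by
    have := congrArg (·.testBit (G.idx a)) c
    simp only [Nat.land_eq, Nat.testBit_and, G.mem_toF.1 ha, Nat.zero_testBit, Bool.true_and] at this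
    rw [Nat.testBit_two_pow_sub_one 12] at this
    simp [l] at this
  have oc : ∀ o ∈ octads, ∏ a ∈ o, D a = f o := fun o ho => (oct_ind (P := fun o => o ∈ octads ∧ ∏ a ∈ o, D a = f o)
    (fun s t a b c => ⟨⟨symmDiff_mem_CW a.1.1 b.1.1, by
      have := card_symmDiff_add s t
      rw [a.1.2, b.1.2, c] at this
      omega⟩, by rw [add, a.2, b.2, F5 s a.1 t b.1 c]⟩) (fun k hk => by
      obtain ⟨a, b⟩ := Bool.and_eq_true_iff.1 (of_allLt (by decide +kernel : (allLt 12 fun k => isOct (cw (2 ^ k)) &&
        Nat.beq (Nat.land (Nat.xor (cw (2 ^ k)) (2 ^ k)) 4095) 0) = true) hk)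
      have := hi _ (Nat.eq_of_beq_eq_true b)
      have l : k < G.n := by rw [G_n]; omega
      rw [G.toF_xor, add, G.toF_two_pow l, Finset.prod_singleton] at this
      refine ⟨mem_octads_of_isOct a, ((one_mul _).symm.trans (inv ((mul_assoc _ _ _).trans ((one_mul _).trans this)))).trans ?_⟩
      simp only [D, G.idx_pt k l, if_pos hk]) ho).2
  have eqv : ∀ g : M24, ∀ s ∈ CW, g • ∏ a ∈ s, D a = ∏ a ∈ (g : P24) • s, D a := fun g =>
    isGolaySys_CW.induction (by simp) fun s _ o a b c => by
      rw [add, smul_symmDiff, add, smul_mul', c, oc o ⟨a, b⟩, F2 g o ⟨a, b⟩, oc _ ((smul_mem_octads g.2).2 ⟨a, b⟩)]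
  have k1 : ∏ a ∈ G.toF 16777215, D a = 1 := by
    have a : G.toF 1351424 ∈ octads := mem_octads_of_isOct (by decide +kernel)
    have d : Disjoint (G.toF 8536111) (G.toF 1351424) := (G.disjoint_iff_land (by decide)).2 (by decide)
    have := F3 _ oct0_mem _ a d
    rwa [← oc _ oct0_mem, ← oc _ a, ← oc _ (compl_union_mem_octads oct0_mem a d), ← add, ← add, symmDiff_eq_union d,
      symmDiff_eq_union disjoint_compl_right, Finset.union_compl, ← toF_full] at this
  have iv : InvFam {s | s ∈ CW ∧ ∏ a ∈ s, D a = 1} := ⟨⟨empty_mem_CW, rfl⟩,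
    fun s a t b => ⟨symmDiff_mem_CW a.1 b.1, by rw [add, a.2, b.2, mul_one]⟩,
    fun g s a => ⟨(smul_mem_CW g.2).2 a.1, by rw [← eqv g s a.1, a.2, smul_one]⟩⟩
  refine ⟨fun s => ∏ a ∈ s, D a, add, fun i l => ?_, fun k hk c => ?_, fun g j hj => eqv g _ (mem_CW_of_isCW
    (of_allLt (by decide +kernel : (allLt 11 fun j => isCW (g24 (bas true) j)) = true) hj))⟩
  · rcases Bool.or_eq_true_iff.1 (of_allLt (by decide +kernel : (allLt 24 fun i =>
      Nat.beq (Nat.land (Nat.xor (2 ^ i) (dcd true (get 11 (dco true) i))) 4095) 0 ||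
      Nat.beq (Nat.land (Nat.xor (Nat.xor (2 ^ i) (dcd true (get 11 (dco true) i))) 16777215) 4095) 0) = true) l) with c | c
    · exact hi _ (Nat.eq_of_beq_eq_true c)
    · have := hi _ (Nat.eq_of_beq_eq_true c)
      rwa [G.toF_xor, add, k1, mul_one] at this
  · have := of_allLt (by decide +kernel : (allLt 2048 fun k => force (dcd true k) fun m =>
      isCW m && (Nat.beq k 0 || !Nat.beq (pc m) 0 && !Nat.beq (pc m) 24)) = true) hk
    have l : dcd true k < 2 ^ 24 := appA_lt _ _ _ _
    simp only [force_eq, ← card_toF l, Bool.and_eq_true, Bool.or_eq_true, Nat.beq_eq, Bool.not_eq_true',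
      Bool.eq_false_iff, ne_eq] at this
    refine this.2.resolve_right fun e => n ?_
    have m := mem_CW_of_isCW this.1
    rw [← one_smul M24 v, ← hf, one_smul, ← oc s hs]
    exact (iv.of_cw m (fun r => e.1 (by rw [r]; rfl)) (fun r => e.2 (by rw [r]; exact card_golayPt)) ⟨m, c⟩ hs.1).2

end FM

end Cfsg.Lib.R11
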