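import Cfsg.Agent.Lib.R11.QT

/-!
# Finite checks in the Sylow subgroup for the Todd case
-/

set_option autoImplicit false
set_option maxRecDepth 100000
set_option linter.unusedSectionVars false

namespace Cfsg.Lib.R11

open Subgroup Cfsg.Lib.RI Cfsg.Lib.SzS Cfsg.Lib.SzV Cfsg.Lib.BG Cfsg.Lib.Pres Cfsg.Lib.Calc Cfsg.Lib.F2 Cfsg.Lib.F6
  Cfsg.Lib.Golay Cfsg.Lib.Mathieu Cfsg.Lib.Grp MulAction
open scoped Cfsg.Lib.Transfer Pointwise

/-- a chain for the elements of `sT` that are even on the six tetrads -/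
def LT0 : List (ℕ × List ℕ) := [(3, [0xbdab49ca307b9ac5a928398a418820, 0x1d48cb2846580efa224983433bc4ae, 0x3cc962c2a20ed29d207aa04d8ddc5, 0x2bc8c5a9c9b44f49ca066a2f500443, 0x1d54759049b0188a3e469b43071637, 0xbb26f922346ba0922cf5b28a608062, 0x1c8ea5b049b008f6a2a6850332baf1, 0xba9f3ac22da39093ac92b30a610c01]),
   (13, [0xbdab49ca307b9ac5a928398a418820, 0x8b20893ef46966b224f5329d618820, 0x2d126259c764568abdaa9caf018820, 0xb926faa22da3a0b6255231cb618820, 0x752cb3a4a455cd0acdac7ca2818820, 0x2b110acdcda45e922cf2b2ae618820, 0x8c184b1ee65954d455e9a4dd218820, 0x720eab30a65dc958366993e3418820, 0x89a959b6f07964749168659ca18820, 0x725b29d0b07dea431ec852e2c18820, 0x2ae4d9d5d07c68ab30c8226e718820, 0x8b57621ae76153094e8a7d5c818820, 0x711f3940b46dd0962d55b1e2618820, 0xbcc8cb2a265b8f47c9096c0b518820, 0xba1474922b3398d85676a3cb218820, 0x8d0c952eec396cfaa1a4849d318820]),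
   (17, [0xbdab49ca307b9ac5a928398a418820, 0x72eb4848b345da7b10cf6262a18820, 0x29ab4449cf845a449d7355aec18820, 0x8a6b47cae8995aa332d022dc718820])]

/-- the inner part of `sT` -/
def T0 : Subgroup M24 := closure (els M24 24 5 Golay.G.pt (flat LT0))

theorem chT0 : Chn 24 5 Golay.G.pt LT0 T0 :=
  Chn.of_schOK inj_pt faithful_M24 (by decide) (by decide) (top_of_okL (by decide +kernel)) (by decide +kernel)

theorem tstT0 : Tst 24 5 Golay.G.pt T0 (memCh 24 5 LT0) := chT0.tst inj_pt faithful_M24 (by decide) (by decide)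

theorem card_T0 : Nat.card T0 = 2 ^ 9 := (chT0.card inj_pt).trans (by decide +kernel)

theorem card_Ob : Nat.card Ob = 2 ^ 6 := (chOb.card inj_pt).trans (by decide +kernel)

theorem T0_le : T0 ≤ sT := (gen_closure faithful_M24 _).le_of_tst chT0.in_flat
  (chsT.tst inj_pt faithful_M24 (by decide) (by decide)) (by decide +kernel)

theorem Ob_le : Ob ≤ T0 := (gen_closure faithful_M24 _).le_of_tst chOb.in_flat tstT0 (by decide +kernel)

theorem exists_four : ∃ y ∈ T0, y * y ∉ Ob := by
  have r := mk_rep (c := 152053038170404361914225923802776750) (by decide +kernel)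
  exact ⟨_, (tstT0 _ _ r).2 (by decide +kernel), fun f => absurd ((tstOb _ _ (r.mulT r)).1 f) (by decide +kernel)⟩

/-- the matrix fixes the vector `m` modulo the numbers below `t` -/
noncomputable def fxB (M t m : ℕ) : Bool := blt (Nat.xor (app 11 M m) m) t

/-- the checks on the elements of `sT` -/
noncomputable def tT (c : ℕ) : Bool :=
  bor (memCh 24 5 LOb c) (force (mat false c) fun M => force (Nat.mul (Golay.cntB 128 (fxB M 2))
    (cntCh 24 5 (fun d => Nat.beq (mulT c d) (mulT d c)) (fun _ _ => true) LOb [] id24)) fun n =>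
      bor (band (Nat.ble n 128) (!memCh 24 5 LT0 c)) (band (band (Nat.ble n 512) (memCh 24 5 LT0 c))
        (Nat.ble (Golay.cntB 16 fun j => fxB M 128 (Nat.mul 128 j)) 4)))

theorem chk_T : allCh tT LsT id24 = true := by decide +kernel

theorem chk_B : allCh (fun c => bor (Nat.beq c id24) (force (mat false c) fun M => Calc.allLt 16 fun i =>
    bor (bor (Nat.beq i 0) (!fxB M 2 (Nat.mul 128 i))) (Calc.allLt 16 fun j =>
      bor (bor (Nat.beq j 0) (!fxB M 2 (Nat.mul 128 j))) (Nat.beq i j)))) LOb id24 = true := by decide +kernel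

theorem chk_A : Calc.allLt 16 (fun j => bor (Nat.beq j 0) (Nat.ble
    (cntCh 24 5 (fun d => fxB (mat false d) 2 (Nat.mul 128 j)) (fun _ _ => true) LOb [] id24) 4)) = true := by decide +kernel

theorem chk_R : allBig 2048 (fun m => blt (Nat.xor (Nat.mul 128 (Nat.div m 128)) m) 128) = true := by decide +kernel

end Cfsg.Lib.R11
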